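import Mathlib

/-!
The fundamental theorem of projective geometry over a finite field, for a pair of maps on nonzero
vectors and nonzero covectors preserving incidence in both directions.
-/

set_option autoImplicit false

namespace Cfsg.Agent.Lib.Geometry

open Matrix

variable {ι F : Type*} [Fintype ι] [DecidableEq ι] [Field F]

/-- `∑ a_k e_k` with prescribed values at one coordinate and zero elsewhere, and three of those. -/
theorem exists_ne_of_three (h3 : 3 ≤ Fintype.card ι) (k l : ι) : ∃ r, r ≠ k ∧ r ≠ l := by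
  by_contra h
  push Not at h
  have hs : (Finset.univ : Finset ι) ⊆ {k, l} := fun r _ => by
    by_cases hr : r = k
    · simp [hr]
    · simp [h r hr]
  have := (Finset.card_le_card hs).trans Finset.card_le_two
  rw [Finset.card_univ] at this
  omega

theorem dot_two (y : ι → F) {k l : ι} (a b : F) :
    (a • Pi.single k 1 + b • Pi.single l 1) ⬝ᵥ y = a * y k + b * y l := by
  simp [add_dotProduct, smul_dotProduct, single_one_dotProduct]

theorem eq_smul_single {y : ι → F} {k : ι} (h : ∀ j, j ≠ k → y j = 0) : y = y k • Pi.single k 1 := by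
  funext j
  by_cases hj : j = k
  · subst hj; simp
  · simp [h j hj, hj]

theorem two_support {y : ι → F} {k l : ι} (hkl : k ≠ l) (h : ∀ j, j ≠ k → j ≠ l → y j = 0) :
    y = y k • Pi.single k 1 + y l • Pi.single l 1 := by
  funext j
  by_cases hj : j = k
  · subst hj; simp [hkl]
  · by_cases hj' : j = l
    · subst hj'; simp [hj]
    · simp [h j hj hj', hj, hj']

/-- The normalised case: coordinate points, coordinate hyperplanes and the point `∑ e_k` are fixed. -/
theorem exists_field_of_normalised [Finite F] (h3 : 3 ≤ Fintype.card ι)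
    (π π' : (ι → F) → (ι → F))
    (hiff : ∀ v w, v ≠ 0 → w ≠ 0 → (π' w ⬝ᵥ π v = 0 ↔ w ⬝ᵥ v = 0))
    (hcoord : ∀ v, v ≠ 0 → ∀ k, (π v k = 0 ↔ v k = 0))
    (hcoord' : ∀ w, w ≠ 0 → ∀ k, (π' w k = 0 ↔ w k = 0))
    (hone : ∀ k l, π (fun _ => 1) k = π (fun _ => 1) l) :
    ∃ σ : F ≃+* F, ∀ v, v ≠ 0 → ∃ c : F, c ≠ 0 ∧ π v = c • (⇑σ ∘ v) := by
  classical
  haveI : Nonempty ι := Fintype.card_pos_iff.1 (by omega)
  have hone0 : (fun _ : ι => (1 : F)) ≠ 0 := fun h => one_ne_zero (congrFun h (Classical.arbitrary ι))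
  -- the point `a e_k + b e_l`
  have hpt : ∀ (k l : ι) (a b : F), k ≠ l → a ≠ 0 →
      (a • Pi.single k 1 + b • Pi.single l 1 : ι → F) ≠ 0 := fun k l a b hkl ha h => ha (by
    have := congrFun h k; simpa [hkl] using this)
  let φ : ι → ι → F → F := fun k l a =>
    π (Pi.single k 1 + a • Pi.single l 1) l / π (Pi.single k 1 + a • Pi.single l 1) k
  -- ratios of coordinates are transformed by `φ`
  have hratio : ∀ x, x ≠ 0 → ∀ k l, k ≠ l → x k ≠ 0 → x l ≠ 0 → π x l = φ k l (x l / x k) * π x k := by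
    intro x hx k l hkl hxk hxl
    set w : ι → F := x l • Pi.single k 1 + (-x k) • Pi.single l 1 with hw
    have hw0 : w ≠ 0 := hpt k l _ _ hkl hxl
    set x₀ : ι → F := Pi.single k 1 + (x l / x k) • Pi.single l 1 with hx₀
    have hx₀0 : x₀ ≠ 0 := by
      have := hpt k l 1 (x l / x k) hkl one_ne_zero
      rwa [one_smul] at this
    have hsupp : π' w = π' w k • Pi.single k 1 + π' w l • Pi.single l 1 :=
      two_support hkl fun j hjk hjl => (hcoord' w hw0 j).2 (by simp [hw, hjk, hjl])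
    have hwk : π' w k ≠ 0 := fun h => by
      have := (hcoord' w hw0 k).1 h
      simp [hw, hkl] at this
      exact hxl this
    have hwl : π' w l ≠ 0 := fun h => by
      have := (hcoord' w hw0 l).1 h
      simp [hw, hkl.symm] at this
      exact hxk this
    have h1 : π' w k * π x k + π' w l * π x l = 0 := by
      rw [← dot_two, ← hsupp, hiff x w hx hw0, hw, dot_two]; ring
    have h2 : π' w k * π x₀ k + π' w l * π x₀ l = 0 := by
      rw [← dot_two, ← hsupp, hiff x₀ w hx₀0 hw0, hw, dot_two, hx₀]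
      simp [hkl, hkl.symm]
      field_simp
      ring
    have hx₀k : π x₀ k ≠ 0 := fun h => by
      have := (hcoord x₀ hx₀0 k).1 h
      simp [hx₀, hkl] at this
    show π x l = π x₀ l / π x₀ k * π x k
    rw [div_mul_eq_mul_div, eq_div_iff hx₀k]
    apply mul_left_cancel₀ hwl
    linear_combination (π x₀ k) * h1 - (π x k) * h2
  have hφone : ∀ k l, k ≠ l → φ k l 1 = 1 := by
    intro k l hkl
    have h := hratio _ hone0 k l hkl one_ne_zero one_ne_zero
    rw [div_one, hone l k] at h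
    have h1 : π (fun _ => (1 : F)) k ≠ 0 := fun h0 => one_ne_zero ((hcoord _ hone0 k).1 h0)
    exact (mul_eq_right₀ h1).1 h.symm
  have hφzero : ∀ k l, k ≠ l → φ k l 0 = 0 := by
    intro k l hkl
    simp only [φ]
    rw [zero_smul, add_zero, (hcoord (Pi.single k 1) (by simp) l).2 (by simp [hkl.symm]), zero_div]
  have hcons : ∀ k l r, k ≠ l → l ≠ r → k ≠ r → ∀ a b, a ≠ 0 → b ≠ 0 →
      φ k r (a * b) = φ k l a * φ l r b := by
    intro k l r hkl hlr hkr a b ha hb
    set x : ι → F := Pi.single k 1 + a • Pi.single l 1 + (a * b) • Pi.single r 1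
    have hxk : x k = 1 := by simp [x, hkl, hkr]
    have hxl : x l = a := by simp [x, hkl.symm, hlr]
    have hxr : x r = a * b := by simp [x, hkr.symm, hlr.symm]
    have hx : x ≠ 0 := fun h => by simp [h] at hxk
    have h1 := hratio x hx k l hkl (by simp [hxk]) (by simp [hxl, ha])
    have h2 := hratio x hx l r hlr (by simp [hxl, ha]) (by simp [hxr, ha, hb])
    have h3 := hratio x hx k r hkr (by simp [hxk]) (by simp [hxr, ha, hb])
    rw [hxk, hxl, div_one] at h1
    rw [hxl, hxr, mul_div_cancel_left₀ b ha] at h2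
    rw [hxk, hxr, div_one] at h3
    have hk0 : π x k ≠ 0 := fun h => by simp [(hcoord x hx k).1 h] at hxk
    apply mul_right_cancel₀ hk0
    linear_combination (-1 : F) * h3 + h2 + φ l r b * h1
  obtain ⟨k₀⟩ : Nonempty ι := inferInstance
  obtain ⟨l₀, hl₀, -⟩ := exists_ne_of_three h3 k₀ k₀
  set s : F → F := φ k₀ l₀
  have hsrc : ∀ k l r, k ≠ l → k ≠ r → l ≠ r → ∀ a, φ k r a = φ l r a := by
    intro k l r hkl hkr hlr a
    by_cases ha : a = 0
    · rw [ha, hφzero k r hkr, hφzero l r hlr]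
    · have := hcons k l r hkl hlr hkr 1 a one_ne_zero ha
      rwa [one_mul, hφone k l hkl, one_mul] at this
  have htgt : ∀ k l r, k ≠ l → k ≠ r → l ≠ r → ∀ a, φ k l a = φ k r a := by
    intro k l r hkl hkr hlr a
    by_cases ha : a = 0
    · rw [ha, hφzero k l hkl, hφzero k r hkr]
    · have := hcons k l r hkl hlr hkr a 1 ha one_ne_zero
      rw [mul_one, hφone l r hlr, mul_one] at this
      exact this.symm
  have hall : ∀ k l, k ≠ l → ∀ a, φ k l a = s a := by
    intro k l hkl a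
    obtain ⟨r, hrk, hrl⟩ := exists_ne_of_three h3 k₀ l₀
    -- every φ agrees with some φ out of k₀
    have hout : ∀ t, t ≠ k₀ → φ k₀ t a = s a := fun t ht => by
      by_cases h : t = l₀
      · rw [h]
      · exact htgt k₀ t l₀ ht.symm hl₀.symm h a
    by_cases hk : k = k₀
    · subst hk; exact hout l hkl.symm
    · by_cases hl : l = k₀
      · subst hl
        obtain ⟨t, htk, htl⟩ := exists_ne_of_three h3 k l
        rw [htgt k l t hkl htk.symm htl.symm, hsrc k l t hkl htk.symm htl.symm, hout t htl]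
      · rw [hsrc k k₀ l hk hkl (Ne.symm hl), hout l hl]
  have hsmul : ∀ a b, s (a * b) = s a * s b := by
    intro a b
    by_cases ha : a = 0
    · rw [ha, zero_mul, show s 0 = 0 from hφzero _ _ hl₀.symm, zero_mul]
    by_cases hb : b = 0
    · rw [hb, mul_zero, show s 0 = 0 from hφzero _ _ hl₀.symm, mul_zero]
    obtain ⟨r, hrk, hrl⟩ := exists_ne_of_three h3 k₀ l₀
    have := hcons k₀ l₀ r hl₀.symm hrl.symm hrk.symm a b ha hb
    rwa [hall k₀ r hrk.symm, hall l₀ r hrl.symm] at this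
  have hs1 : s 1 = 1 := hφone _ _ hl₀.symm
  have hs0 : s 0 = 0 := hφzero _ _ hl₀.symm
  have hsne : ∀ a, a ≠ 0 → s a ≠ 0 := fun a ha h => by
    have := hsmul a a⁻¹
    rw [mul_inv_cancel₀ ha, hs1, h, zero_mul] at this
    exact one_ne_zero this
  -- every point is mapped by `s`
  have hshape : ∀ x, x ≠ 0 → ∀ k, x k ≠ 0 → ∀ l, π x l = s (x l / x k) * π x k := by
    intro x hx k hk l
    by_cases hkl : k = l
    · rw [← hkl, div_self hk, hs1, one_mul]
    by_cases hl : x l = 0
    · rw [hl, zero_div, hs0, zero_mul, (hcoord x hx l).2 hl]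
    · rw [hratio x hx k l hkl hk hl, hall k l hkl]
  have hinj : ∀ a b, s a = s b → a = b := by
    intro a b hab
    by_contra hne
    obtain ⟨w, hw⟩ : ∃ w : ι → F, w = (-a) • Pi.single k₀ 1 + (1 : F) • Pi.single l₀ 1 := ⟨_, rfl⟩
    have hw0 : w ≠ 0 := fun h => by
      have := congrFun h l₀; simp [hw, hl₀] at this
    have hpta : ∀ c : F, (Pi.single k₀ 1 + c • Pi.single l₀ 1 : ι → F) ≠ 0 := fun c h => by
      have := congrFun h k₀; simp [hl₀.symm] at this
    have hπab : ∀ c, ∃ d : F, π (Pi.single k₀ 1 + c • Pi.single l₀ 1) =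
        d • (Pi.single k₀ 1 + s c • Pi.single l₀ 1) ∧ d ≠ 0 := by
      intro c
      set x : ι → F := Pi.single k₀ 1 + c • Pi.single l₀ 1 with hx
      have hxk : x k₀ = 1 := by simp [hx, hl₀.symm]
      refine ⟨π x k₀, funext fun j => ?_, fun h => by simp [(hcoord x (hpta c) k₀).1 h] at hxk⟩
      rw [hshape x (hpta c) k₀ (by simp [hxk]) j, hxk, div_one]
      by_cases hj : j = k₀
      · subst hj; simp [hx, hl₀.symm, hs1]
      · by_cases hj' : j = l₀
        · subst hj'; simp [hx, hj]; ring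
        · simp [hx, hj, hj', hs0]
    obtain ⟨da, hda, hda0⟩ := hπab a
    obtain ⟨db, hdb, hdb0⟩ := hπab b
    have h1 : π' w ⬝ᵥ π (Pi.single k₀ 1 + a • Pi.single l₀ 1) = 0 :=
      (hiff _ _ (hpta a) hw0).2 (by rw [hw, dot_two]; simp [hl₀.symm, hl₀])
    rw [hda, dotProduct_smul, smul_eq_zero] at h1
    have h2 : π' w ⬝ᵥ π (Pi.single k₀ 1 + b • Pi.single l₀ 1) = 0 := by
      rw [hdb, ← hab, dotProduct_smul, h1.resolve_left hda0, smul_zero]
    have h3' := (hiff _ _ (hpta b) hw0).1 h2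
    rw [hw, dot_two] at h3'
    simp [hl₀.symm, hl₀] at h3'
    exact hne (by linear_combination -h3')
  have hsneg1 : s (-1) = -1 := by
    have h2 : s (-1) * s (-1) = 1 := by rw [← hsmul, neg_mul_neg, one_mul, hs1]
    rcases mul_self_eq_one_iff.1 h2 with h | h
    · have : (-1 : F) = 1 := hinj _ _ (h.trans hs1.symm)
      rw [h, this]
    · exact h
  have hsneg : ∀ a, s (-a) = -s a := fun a => by
    rw [← neg_one_mul, hsmul, hsneg1, neg_one_mul]
  -- covectors are mapped by `s` too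
  have hdual : ∀ w, w ≠ 0 → ∀ k, w k ≠ 0 → ∀ l, π' w l = s (w l / w k) * π' w k := by
    intro w hw k hk l
    by_cases hkl : k = l
    · rw [← hkl, div_self hk, hs1, one_mul]
    by_cases hl : w l = 0
    · rw [hl, zero_div, hs0, zero_mul, (hcoord' w hw l).2 hl]
    set x : ι → F := w l • Pi.single k 1 + (-w k) • Pi.single l 1 with hx
    have hx0 : x ≠ 0 := hpt k l _ _ hkl hl
    have hxs : π x = π x k • Pi.single k 1 + π x l • Pi.single l 1 :=
      two_support hkl fun j hjk hjl => (hcoord x hx0 j).2 (by simp [hx, hjk, hjl])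
    have hxk : x k = w l := by simp [hx, hkl]
    have hxl : x l = -w k := by simp [hx, Ne.symm hkl]
    have hxk0 : π x k ≠ 0 := fun h => hl (by rw [← hxk]; exact (hcoord x hx0 k).1 h)
    have h1 : π' w k * π x k + π' w l * π x l = 0 := by
      have h := (hiff x w hx0 hw).2 (by rw [dotProduct_comm, hx, dot_two]; ring)
      rw [dotProduct_comm, hxs, dot_two] at h
      linear_combination h
    have h2 := hshape x hx0 k (by rw [hxk]; exact hl) l
    rw [hxl, hxk, neg_div, hsneg] at h2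
    rw [h2] at h1
    have h3' : s (w k / w l) * s (w l / w k) = 1 := by
      rw [← hsmul, div_mul_div_comm, mul_comm (w k), div_self (mul_ne_zero hl hk), hs1]
    apply mul_right_cancel₀ (mul_ne_zero hxk0 (hsne _ (div_ne_zero hk hl)))
    linear_combination (-1 : F) * h1 - π' w k * π x k * h3'
  have hadd : ∀ a b, s (a + b) = s a + s b := by
    intro a b
    obtain ⟨r, hrk, hrl⟩ := exists_ne_of_three h3 k₀ l₀
    set x : ι → F := Pi.single k₀ 1 + a • Pi.single l₀ 1 + b • Pi.single r 1 with hx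
    set w : ι → F := (-(a + b)) • Pi.single k₀ 1 + (1 : F) • Pi.single l₀ 1 + (1 : F) • Pi.single r 1 with hw
    have hxk : x k₀ = 1 := by simp [hx, hl₀.symm, hrk.symm]
    have hxl : x l₀ = a := by simp [hx, hl₀, hrl.symm]
    have hxr : x r = b := by simp [hx, hrk, hrl]
    have hwk : w k₀ = -(a + b) := by simp [hw, hl₀.symm, hrk.symm]
    have hwl : w l₀ = 1 := by simp [hw, hl₀, hrl.symm]
    have hwr : w r = 1 := by simp [hw, hrk, hrl]
    have hx0 : x ≠ 0 := fun h => by simp [h] at hxk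
    have hw0 : w ≠ 0 := fun h => by simp [h] at hwl
    have hdot : ∀ y, w ⬝ᵥ y = -(a + b) * y k₀ + y l₀ + y r := fun y => by
      simp [hw, add_dotProduct, smul_dotProduct, single_one_dotProduct]
    have h := (hiff x w hx0 hw0).2 (by rw [hdot, hxk, hxl, hxr]; ring)
    have hw' : π' w = π' w l₀ • (s (-(a + b)) • Pi.single k₀ 1 + Pi.single l₀ 1 + Pi.single r 1) := by
      funext j
      rw [hdual w hw0 l₀ (by simp [hwl]) j, hwl, div_one]
      by_cases hjk : j = k₀
      · subst hjk; simp [hwk, hl₀.symm, hrk.symm, mul_comm]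
      by_cases hjl : j = l₀
      · subst hjl; simp [hwl, hs1, hjk, hrl.symm]
      by_cases hjr : j = r
      · subst hjr; simp [hwr, hs1, hjk, hjl]
      · simp [hw, hjk, hjl, hjr, hs0]
    have hwl0 : π' w l₀ ≠ 0 := fun h0 => by simp [(hcoord' w hw0 l₀).1 h0] at hwl
    have hxk0 : π x k₀ ≠ 0 := fun h0 => by simp [(hcoord x hx0 k₀).1 h0] at hxk
    rw [hw', smul_dotProduct, smul_eq_zero, or_iff_right hwl0] at h
    simp only [add_dotProduct, smul_dotProduct, single_one_dotProduct, smul_eq_mul,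
      hshape x hx0 k₀ (by simp [hxk]) l₀, hshape x hx0 k₀ (by simp [hxk]) r, hxk, hxl, hxr, div_one] at h
    rw [hsneg] at h
    have : (s (a + b) - s a - s b) * π x k₀ = 0 := by linear_combination (-1 : F) * h
    have := (mul_eq_zero.1 this).resolve_right hxk0
    linear_combination this
  let σ : F ≃+* F := RingEquiv.ofBijective
    ({ toFun := s, map_one' := hs1, map_mul' := hsmul, map_zero' := hs0, map_add' := hadd } : F →+* F)
    (Finite.injective_iff_bijective.1 fun a b => hinj a b)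
  refine ⟨σ, fun x hx => ?_⟩
  obtain ⟨k, hk⟩ : ∃ k, x k ≠ 0 := by
    by_contra h; push Not at h; exact hx (funext h)
  refine ⟨π x k / s (x k), div_ne_zero (fun h => hk ((hcoord x hx k).1 h)) (hsne _ hk), funext fun l => ?_⟩
  rw [hshape x hx k hk l]
  show _ = π x k / s (x k) * s (x l)
  rw [show s (x l / x k) = s (x l) / s (x k) from by
    rw [eq_div_iff (hsne _ hk), ← hsmul, div_mul_cancel₀ _ hk]]
  ring

/-- **Fundamental theorem of projective geometry**: maps of points and hyperplanes preserving incidence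
are induced by a semilinear map. -/
theorem exists_semilinear [Finite F] (h3 : 3 ≤ Fintype.card ι)
    (π π' : (ι → F) → (ι → F)) (hπ : ∀ v, v ≠ 0 → π v ≠ 0) (hπ' : ∀ w, w ≠ 0 → π' w ≠ 0)
    (hiff : ∀ v w, v ≠ 0 → w ≠ 0 → (π' w ⬝ᵥ π v = 0 ↔ w ⬝ᵥ v = 0)) :
    ∃ (g : GL ι F) (σ : F ≃+* F), ∀ v, v ≠ 0 →
      ∃ c : F, c ≠ 0 ∧ π v = c • ((g : Matrix ι ι F) *ᵥ (⇑σ ∘ v)) := by
  classical
  have he : ∀ k : ι, (Pi.single k 1 : ι → F) ≠ 0 := fun k => by simp
  let A : Matrix ι ι F := Matrix.of fun i k => π (Pi.single k 1) i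
  let D : Matrix ι ι F := Matrix.of fun k i => π' (Pi.single k 1) i
  have hDA : D * A = diagonal fun k => π' (Pi.single k 1) ⬝ᵥ π (Pi.single k 1) := by
    ext k l
    show (π' (Pi.single k 1) ⬝ᵥ π (Pi.single l 1)) = _
    by_cases hkl : k = l
    · subst hkl; simp
    · rw [diagonal_apply_ne _ hkl, hiff _ _ (he l) (he k)]; simp [hkl]
  have hd : ∀ k, π' (Pi.single k 1) ⬝ᵥ π (Pi.single k 1) ≠ 0 := fun k => by
    rw [Ne, hiff _ _ (he k) (he k)]; simp
  have hdet : (D * A).det ≠ 0 := by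
    rw [hDA, det_diagonal]; exact Finset.prod_ne_zero_iff.2 fun k _ => hd k
  rw [det_mul, mul_ne_zero_iff] at hdet
  have hA : IsUnit A := (Matrix.isUnit_iff_isUnit_det _).2 (isUnit_iff_ne_zero.2 hdet.2)
  haveI : Nonempty ι := Fintype.card_pos_iff.1 (by omega)
  have hone0 : (fun _ : ι => (1 : F)) ≠ 0 := fun h => one_ne_zero (congrFun h (Classical.arbitrary ι))
  set u := π fun _ => 1
  set z : ι → F := ((hA.unit⁻¹ : GL ι F) : Matrix ι ι F) *ᵥ u
  have hz : A *ᵥ z = u := by
    show A *ᵥ (((hA.unit⁻¹ : GL ι F) : Matrix ι ι F) *ᵥ u) = u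
    rw [Matrix.mulVec_mulVec]
    have : A * ((hA.unit⁻¹ : GL ι F) : Matrix ι ι F) = 1 := hA.mul_val_inv
    rw [this, Matrix.one_mulVec]
  have hpair : ∀ k, π' (Pi.single k 1) ⬝ᵥ u = π' (Pi.single k 1) ⬝ᵥ π (Pi.single k 1) * z k := by
    intro k
    have h1 : (D *ᵥ (A *ᵥ z)) k = π' (Pi.single k 1) ⬝ᵥ u := by rw [hz]; rfl
    rw [Matrix.mulVec_mulVec, hDA, mulVec_diagonal] at h1
    exact h1.symm
  have hz0 : ∀ k, z k ≠ 0 := fun k h => by
    have h1 := hpair k
    rw [h, mul_zero, hiff _ _ hone0 (he k)] at h1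
    simp at h1
  let g : GL ι F := hA.unit * ⟨diagonal z, diagonal fun k => (z k)⁻¹,
    by rw [diagonal_mul_diagonal, show (fun i => z i * (z i)⁻¹) = fun _ => (1 : F) from
      funext fun i => mul_inv_cancel₀ (hz0 i), diagonal_one],
    by rw [diagonal_mul_diagonal, show (fun i => (z i)⁻¹ * z i) = fun _ => (1 : F) from
      funext fun i => inv_mul_cancel₀ (hz0 i), diagonal_one]⟩
  set G : Matrix ι ι F := (g : Matrix ι ι F) with hG
  set Gi : Matrix ι ι F := ((g⁻¹ : GL ι F) : Matrix ι ι F) with hGi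
  have hGcol : ∀ k, G *ᵥ Pi.single k 1 = z k • π (Pi.single k 1) := by
    intro k
    show (A * diagonal z) *ᵥ Pi.single k 1 = _
    funext i
    simp [A, Matrix.mulVec_single, Matrix.mul_diagonal, mul_comm]
  have hGGi : G * Gi = 1 := g.mul_inv
  have hGiG : Gi * G = 1 := g.inv_mul
  let ρ : (ι → F) → (ι → F) := fun v => Gi *ᵥ π v
  let ρ' : (ι → F) → (ι → F) := fun w => Gᵀ *ᵥ π' w
  have hdot : ∀ v w, ρ' w ⬝ᵥ ρ v = π' w ⬝ᵥ π v := by
    intro v w
    show (Gᵀ *ᵥ π' w) ⬝ᵥ (Gi *ᵥ π v) = _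
    rw [Matrix.mulVec_transpose, ← Matrix.dotProduct_mulVec, Matrix.mulVec_mulVec, hGGi, Matrix.one_mulVec]
  have hρ' : ∀ w, w ≠ 0 → ρ' w ≠ 0 := fun w hw h => hπ' w hw (by
    have := congrArg (Giᵀ *ᵥ ·) h
    simpa [ρ', Matrix.mulVec_mulVec, ← Matrix.transpose_mul, hGGi] using this)
  have hρe : ∀ k, ρ (Pi.single k 1) = (z k)⁻¹ • Pi.single k 1 := fun k => by
    show Gi *ᵥ _ = _
    have : π (Pi.single k 1) = (z k)⁻¹ • (G *ᵥ Pi.single k 1) := by
      rw [hGcol, smul_smul, inv_mul_cancel₀ (hz0 k), one_smul]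
    rw [this, Matrix.mulVec_smul, Matrix.mulVec_mulVec, hGiG, Matrix.one_mulVec]
  have hcoord' : ∀ w, w ≠ 0 → ∀ k, (ρ' w k = 0 ↔ w k = 0) := fun w hw k => by
    have h := hiff _ _ (he k) hw
    rw [← hdot, hρe, dotProduct_smul, dotProduct_single_one, dotProduct_single_one, smul_eq_mul,
      mul_eq_zero, or_iff_right (inv_ne_zero (hz0 k))] at h
    exact h
  have hρ'e : ∀ k, ρ' (Pi.single k 1) = ρ' (Pi.single k 1) k • Pi.single k 1 := fun k =>
    eq_smul_single fun j hj => (hcoord' _ (he k) j).2 (by simp [hj])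
  have hcoord : ∀ v, v ≠ 0 → ∀ k, (ρ v k = 0 ↔ v k = 0) := fun v hv k => by
    have h := hiff v _ hv (he k)
    rw [← hdot, hρ'e, smul_dotProduct, single_one_dotProduct, single_one_dotProduct, smul_eq_mul,
      mul_eq_zero, or_iff_right] at h
    · exact h
    · intro h0
      exact hρ' _ (he k) ((hρ'e k).trans (by rw [h0, zero_smul]))
  have hρ1 : ρ (fun _ => 1) = fun _ => 1 := by
    show Gi *ᵥ u = _
    have h1 : G *ᵥ (fun _ => (1 : F)) = u := by
      show (A * diagonal z) *ᵥ _ = _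
      rw [← Matrix.mulVec_mulVec, ← hz]
      congr 1
      funext i; simp [mulVec_diagonal]
    rw [← h1, Matrix.mulVec_mulVec, hGiG, Matrix.one_mulVec]
  obtain ⟨σ, hσ⟩ := exists_field_of_normalised h3 ρ ρ'
    (fun v w hv hw => by rw [hdot]; exact hiff v w hv hw) hcoord hcoord' (fun k l => by rw [hρ1])
  refine ⟨g, σ, fun v hv => ?_⟩
  obtain ⟨c, hc, h⟩ := hσ v hv
  refine ⟨c, hc, ?_⟩
  have h1 : G *ᵥ ρ v = π v := by
    show G *ᵥ (Gi *ᵥ π v) = _
    rw [Matrix.mulVec_mulVec, hGGi, Matrix.one_mulVec]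
  rw [← h1, h, Matrix.mulVec_smul]

end Cfsg.Agent.Lib.Geometry
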